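import Groth.Agent.Lib.SqZeroHom26.Basic
import Groth.Agent.S5005

/-!
# Two morphisms agreeing on a square zero subscheme differ by a derivation
-/

set_option autoImplicit false
set_option backward.isDefEq.respectTransparency false
universe u

noncomputable section

open CategoryTheory CategoryTheory.Limits AlgebraicGeometry Opposite

namespace GrothLib.DerDiff26

open GrothLib.IdealModSec GrothLib.InvExt

variable {X Y S : Scheme.{u}} (J : X.IdealSheafData)

theorem surjective_of_sq (hJ : J ^ 2 = ⊥) : Function.Surjective J.subschemeι.base := by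
  rw [← Set.range_eq_univ, Scheme.IdealSheafData.range_subschemeι, Set.eq_univ_iff_forall]
  intro z
  obtain ⟨U, hU, hzU, -⟩ := exists_isAffineOpen_mem_and_subset (x := z) (U := ⊤) trivial
  refine (J.mem_support_iff_of_mem (U := ⟨U, hU⟩) hzU).2 ((Scheme.mem_zeroLocus_iff _ _ _).2 fun a ha => ?_)
  have h2 : J.ideal ⟨U, hU⟩ * J.ideal ⟨U, hU⟩ = ⊥ := by
    have := congrArg (fun K : X.IdealSheafData => K.ideal ⟨U, hU⟩) hJ
    simpa [pow_two] using this
  have hn : IsNilpotent a := ⟨2, by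
    rw [pow_two]; exact Ideal.mem_bot.1 (h2 ▸ Ideal.mul_mem_mul ha ha)⟩
  intro hz
  have hb : z ∈ (⊥ : X.Opens) := (X.basicOpen_eq_bot_of_isNilpotent U a hn) ▸ hz
  exact hb

variable {J} {p : X ⟶ S} {q : Y ⟶ S} {h h' : X ⟶ Y}

theorem preimage_le (hJ : J ^ 2 = ⊥) (he : J.subschemeι ≫ h = J.subschemeι ≫ h') (W : Y.Opens) :
    h ⁻¹ᵁ W ≤ h' ⁻¹ᵁ W := fun z hz => by
  obtain ⟨y, rfl⟩ := surjective_of_sq J hJ z
  show (J.subschemeι ≫ h') y ∈ W
  rwa [← he]

/-- Without infinitesimal displacements two morphisms agreeing on a square zero subscheme agree. -/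
theorem eq_of_subsingleton [QuasiSeparated q] (hJ : J ^ 2 = ⊥)
    (he : J.subschemeι ≫ h = J.subschemeι ≫ h') (hq : h ≫ q = p) (hq' : h' ≫ q = p)
    (h0 : Subsingleton ((Scheme.Modules.pullback (J.subschemeι ≫ h)).obj (Omega.sheaf q) ⟶
      (Scheme.Modules.pullback J.subschemeι).obj (ClSub.idealMod J))) : h = h' := by
  let F := (Scheme.Modules.pullback J.subschemeι).obj (ClSub.idealMod J)
  let g := J.subschemeι ≫ h
  let G := (Scheme.Modules.pushforward g).obj F
  have hle := preimage_le hJ he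
  let Δ : ∀ W : Y.Opens, Γ(Y, W) → Γ(X, h ⁻¹ᵁ W) := fun W b =>
    (h'.appLE W (h ⁻¹ᵁ W) (hle W)).hom b - (h.app W).hom b
  have hker : ∀ W b, (ClSub.toSubscheme J).app (h ⁻¹ᵁ W) (OmegaSh.strSect X _ (Δ W b)) = 0 := by
    intro W b
    rw [OmegaSh.toSubscheme_app_strSect, map_sub, sub_eq_zero, Scheme.Hom.app_eq_appLE, Scheme.Hom.app_eq_appLE,
      ← ConcreteCategory.comp_apply, ← ConcreteCategory.comp_apply, Scheme.Hom.appLE_comp_appLE,
      Scheme.Hom.appLE_comp_appLE]
    simp only [he]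
  choose σ hσ using fun W b => (app_kernel (ClSub.toSubscheme J) (h ⁻¹ᵁ W)).2 _ (hker W b)
  have hval : ∀ W b, val J (h ⁻¹ᵁ W) (σ W b) = Δ W b := hσ
  let D : ∀ W : Y.Opens, Γ(Y, W) → Γ(G, W) := fun W b =>
    OmegaSh.pullSect J.subschemeι (ClSub.idealMod J) (h ⁻¹ᵁ W) (σ W b)
  have hadd : ∀ W a b, D W (a + b) = D W a + D W b := fun W a b => by
    refine (congrArg (OmegaSh.pullSect J.subschemeι (ClSub.idealMod J) (h ⁻¹ᵁ W))
      (show σ W (a + b) = σ W a + σ W b from val_injective J _ ?_)).trans (map_add _ _ _)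
    rw [hval, show val J (h ⁻¹ᵁ W) (σ W a + σ W b) = val J _ (σ W a) + val J _ (σ W b) from
      map_add ((ClSub.idealModι J).app _).hom _ _, hval, hval]
    show _ - _ = _
    rw [map_add, map_add]; ring
  have hmul : ∀ W a b, σ W (a * b) =
      (h.app W).hom a • σ W b + (h'.appLE W (h ⁻¹ᵁ W) (hle W)).hom b • σ W a := fun W a b => by
    refine val_injective J _ ?_
    rw [hval, show val J (h ⁻¹ᵁ W) ((h.app W).hom a • σ W b + (h'.appLE W _ (hle W)).hom b • σ W a) =
        val J _ ((h.app W).hom a • σ W b) + val J _ ((h'.appLE W _ (hle W)).hom b • σ W a) from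
      map_add ((ClSub.idealModι J).app _).hom _ _, val_smul, val_smul, hval, hval]
    show _ - _ = _ * (_ - _) + _ * (_ - _)
    rw [map_mul, map_mul]; ring
  have hmap : ∀ {W W' : Y.Opens} (e : W' ≤ W) (b : Γ(Y, W)),
      σ W' ((Y.presheaf.map (homOfLE e).op).hom b) = mres (ClSub.idealMod J) (h.preimage_mono e) (σ W b) := by
    intro W W' e b
    refine val_injective J _ ?_
    rw [val_mres, hval, hval]
    show (h'.appLE W' _ (hle W')).hom ((Y.presheaf.map _).hom b) - (h.app W').hom ((Y.presheaf.map _).hom b) =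
      (X.presheaf.map _).hom ((h'.appLE W _ (hle W)).hom b - (h.app W).hom b)
    rw [map_sub, Scheme.Hom.app_eq_appLE, Scheme.Hom.app_eq_appLE]
    simp only [← ConcreteCategory.comp_apply, Scheme.Hom.map_appLE, Scheme.Hom.appLE_map]
  have hbase : ∀ (V : S.Opens) (c : Γ(S, V)), σ (q ⁻¹ᵁ V) ((q.app V).hom c) = 0 := by
    intro V c
    refine val_injective J _ ?_
    rw [val_zero, hval]
    show _ - _ = 0
    rw [sub_eq_zero, Scheme.Hom.app_eq_appLE, Scheme.Hom.app_eq_appLE, ← ConcreteCategory.comp_apply,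
      ← ConcreteCategory.comp_apply, Scheme.Hom.appLE_comp_appLE, Scheme.Hom.appLE_comp_appLE]
    simp only [hq, hq']
  let δ : OmegaSh.Der q G :=
    { d := fun {W} => AddMonoidHom.mk' (D W.unop) (hadd W.unop)
      d_mul := fun {W} a b => by
        show D W.unop (a * b) = _
        refine (congrArg (OmegaSh.pullSect J.subschemeι (ClSub.idealMod J) (h ⁻¹ᵁ W.unop)) (hmul W.unop a b)).trans ?_
        rw [map_add, OmegaSh.pullSect_smul, OmegaSh.pullSect_smul]
        refine congrArg₂ (· + ·) rfl ?_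
        have hr : (J.subschemeι.app _).hom ((h'.appLE W.unop _ (hle W.unop)).hom b) = (g.app W.unop).hom b := by
          rw [Scheme.Hom.app_eq_appLE, Scheme.Hom.app_eq_appLE, ← ConcreteCategory.comp_apply,
            Scheme.Hom.appLE_comp_appLE]
          simp only [g, he]; rfl
        exact congrArg (fun r => r • OmegaSh.pullSect J.subschemeι (ClSub.idealMod J) (h ⁻¹ᵁ W.unop) (σ W.unop a)) hr
      d_map := fun {W W'} i b => by
        show D W'.unop _ = _
        exact (congrArg (OmegaSh.pullSect J.subschemeι (ClSub.idealMod J) (h ⁻¹ᵁ W'.unop))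
          (hmap i.unop.le b)).trans (OmegaSh.pullSect_map J.subschemeι (ClSub.idealMod J) _ _)
      d_app := fun {V} c => (congrArg (OmegaSh.pullSect J.subschemeι (ClSub.idealMod J) _) (hbase V.unop c)).trans
        (map_zero _) }
  obtain ⟨α, hα, -⟩ := Groth.Agent.S5005.result q G δ
  obtain ⟨β, -, hβ⟩ := Groth.Agent.S5005.result q G δ
  haveI := h0
  have hα0 : α = 0 := ((Scheme.Modules.pullbackPushforwardAdjunction g).homEquiv _ _).symm.injective
    (Subsingleton.elim _ _)
  have hD0 : ∀ W b, D W b = 0 := fun W b => by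
    have h1 : δ.app W b = α.app W ((OmegaSh.dOmega q).app W b) := by rw [← hα]; rfl
    rw [hα0] at h1
    exact h1
  haveI := GrothLib.SqZeroHom26.isIso_unit_idealMod J hJ
  have hinj : ∀ U, Function.Injective (OmegaSh.pullSect J.subschemeι (ClSub.idealMod J) U) := fun U a b hab => by
    let η := (Scheme.Modules.pullbackPushforwardAdjunction J.subschemeι).unit.app (ClSub.idealMod J)
    have h2 : (inv η).app U (η.app U a) = (inv η).app U (η.app U b) := congrArg ((inv η).app U) hab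
    rwa [← ConcreteCategory.comp_apply, ← ConcreteCategory.comp_apply, ← Scheme.Modules.Hom.comp_app,
      IsIso.hom_inv_id] at h2
  have hΔ : ∀ W b, (h'.appLE W (h ⁻¹ᵁ W) (hle W)).hom b = (h.app W).hom b := fun W b => by
    rw [← sub_eq_zero]
    show Δ W b = 0
    rw [← hval W b, hinj _ ((hD0 W b).trans (map_zero _).symm), val_zero]
  -- check on affine pieces
  refine Scheme.Cover.hom_ext (X.openCoverOfIsOpenCover (fun V : {V : X.affineOpens // ∃ W : Y.affineOpens,
    V.1 ≤ h ⁻¹ᵁ W.1} => V.1.1) (TopologicalSpace.IsOpenCover.mk (top_unique fun z _ => by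
      obtain ⟨W, hW, hzW, -⟩ := exists_isAffineOpen_mem_and_subset (x := h z) (U := ⊤) trivial
      obtain ⟨V, hV, hzV, hVW⟩ := exists_isAffineOpen_mem_and_subset (x := z) (U := h ⁻¹ᵁ W) hzW
      exact TopologicalSpace.Opens.mem_iSup.2 ⟨⟨⟨V, hV⟩, ⟨W, hW⟩, hVW⟩, hzV⟩))) _ _ fun V => ?_
  obtain ⟨⟨V, hV⟩, ⟨W, hW⟩, hVW⟩ := V
  show V.ι ≫ h = V.ι ≫ h'
  rw [← cancel_epi hV.isoSpec.inv, IsAffineOpen.isoSpec_inv_ι_assoc, IsAffineOpen.isoSpec_inv_ι_assoc,
    ← IsAffineOpen.SpecMap_appLE_fromSpec h hW hV hVW,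
    ← IsAffineOpen.SpecMap_appLE_fromSpec h' hW hV (hVW.trans (hle W))]
  congr 2
  refine CommRingCat.hom_ext (RingHom.ext fun b => ?_)
  have h3 := congrArg (X.presheaf.map (homOfLE hVW).op).hom (hΔ W b)
  rw [Scheme.Hom.app_eq_appLE] at h3
  simpa [← ConcreteCategory.comp_apply, Scheme.Hom.appLE_map] using h3.symm

end GrothLib.DerDiff26
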